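import Cfsg.Agent.Lib.ChevStructure.Instances
import Cfsg.Agent.Lib.RootPairs.LongPair
set_option autoImplicit false
open Cfsg.Lie Cfsg.Agent.Lib.ChevStructure Cfsg.Agent.Lib.RootPairs.LongPair
namespace Cfsg.Agent.Lib.RootPairs.Certs
theorem good_g2 : GoodTop chevG2 ⟨11, by decide⟩ ∧ IsLong chevG2 ⟨11, by decide⟩ := by
  decide +kernel
theorem good_d4 : GoodTop chevD4 ⟨23, by decide⟩ ∧ IsLong chevD4 ⟨23, by decide⟩ := by
  decide +kernel
theorem good_e6 : GoodTop chevE6 ⟨71, by decide⟩ ∧ IsLong chevE6 ⟨71, by decide⟩ := by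
  decide +kernel
theorem good_e7 : GoodTop chevE7 ⟨125, by decide⟩ ∧ IsLong chevE7 ⟨125, by decide⟩ := by
  decide +kernel
theorem good_e8 : GoodTop chevE8 ⟨239, by decide⟩ ∧ IsLong chevE8 ⟨239, by decide⟩ := by
  decide +kernel
end Cfsg.Agent.Lib.RootPairs.Certs
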